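import Mathlib
import Cfsg.Prelude.Def_Local
import Cfsg.Prelude.Def_Characters
import Cfsg.Prelude.Def_Blocks
import Cfsg.Agent.H511.Wt.Irr

/-!
# S4816 (relative Ito-Michler): the interfaces of the skeleton (helper229)

* `Bad p Z l`: all irreducible characters over the linear character `l` of the central subgroup `Z` have degree prime to `p`.
* `QBad p N φ`: a bad quasi-simple group; the three statements needed about them are `RowR` (non-abelian Sylow subgroups),
  `RowOut` (outer automorphisms of order `p`) and `RowThree` (three orbits of characters).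
* `CoreP p K N φ`: case A (the minimal normal subgroup is a `p`-group), the situation `Core2` of S4979 with `q = p`; its layers
  are `LayerIP` (imprimitive), `LayerAP` (quasi-simple), `LayerBP` (extraspecial); the layer of permuted components is a theorem.
-/

set_option autoImplicit false
set_option linter.unusedSectionVars false

open Cfsg

namespace Cfsg.Agent.H229.RIM

open Cfsg.Agent.H511.Wt

universe u

/-- All irreducible characters over `l` have degree prime to `p`. -/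
def Bad (p : ℕ) {G : Type*} [Group G] [Finite G] (Z : Subgroup G) (l : Z →* ℂˣ) : Prop :=
  ∀ χ : G → ℂ, IsIrrCharacter G χ → (∀ z : Z, χ z = χ 1 * l z) → ¬ p ∣ charDegree χ

/-- A bad quasi-simple group. -/
structure QBad (p : ℕ) {E : Type*} [Group E] [Finite E] (N : Subgroup E) (φ : N →* ℂˣ) : Prop where
  odd : p ≠ 2
  perf : commutator E = ⊤
  simp : IsSimpleGroup (E ⧸ Subgroup.center E)
  pZ : ¬ p ∣ Nat.card (Subgroup.center E)
  pE : p ∣ Nat.card E
  cen : N ≤ Subgroup.center E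
  Nne : N ≠ ⊥
  inj : Function.Injective φ
  bad : Bad p N φ

/-- (R): bad quasi-simple groups have abelian Sylow `p`-subgroups. -/
def RowR (p : ℕ) : Prop :=
  ∀ {E : Type u} [Group E] [Finite E] (N : Subgroup E) (φ : N →* ℂˣ), QBad p N φ →
    ∀ P : Sylow p E, ∀ a ∈ P, ∀ b ∈ P, a * b = b * a

/-- (Out): `E` normal in `G`, `N` central in `G`, `p` divides `|G : E C_G(E)|`; then the stabilizer in `G` of some
irreducible character of `E` over `φ` has index divisible by `p`. -/
def RowOut (p : ℕ) : Prop :=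
  ∀ {G : Type u} [Group G] [Finite G] (E : Subgroup G) (N : Subgroup E) (φ : N →* ℂˣ), E.Normal → QBad p N φ →
    (∀ n : E, n ∈ N → (n : G) ∈ Subgroup.center G) → p ∣ (E ⊔ Subgroup.centralizer (E : Set G)).index →
    ∃ ψ : E → ℂ, IsIrrCharacter E ψ ∧ (∀ n : N, ψ n = ψ 1 * φ n) ∧
      ∀ T : Subgroup G, (∀ g ∈ T, ∀ (x y : E), (y : G) = g * x * g⁻¹ → ψ y = ψ x) → p ∣ T.index

/-- (Three): `E` normal in `G`, `N` central in `G`: there are three irreducible characters of `E` over `φ`, no two of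
them conjugate in `G`. -/
def RowThree (p : ℕ) : Prop :=
  ∀ {G : Type u} [Group G] [Finite G] (E : Subgroup G) (N : Subgroup E) (φ : N →* ℂˣ), E.Normal → QBad p N φ →
    (∀ n : E, n ∈ N → (n : G) ∈ Subgroup.center G) →
    ∃ ψ : Fin 3 → E → ℂ, (∀ i, IsIrrCharacter E (ψ i)) ∧ (∀ i, ∀ n : N, ψ i n = ψ i 1 * φ n) ∧
      ∀ i j, i ≠ j → ∀ g : G, ¬ ∀ (x y : E), (y : G) = g * x * g⁻¹ → ψ i y = ψ j x

/-- The core situation of case A: `Core2` of S4979 with `q = p`. -/
structure CoreP (p : ℕ) {H V : Type*} [Group H] [Finite H] [AddCommGroup V] [Finite V]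
    [DistribMulAction H V] (K N : Subgroup H) (φ : N →* ℂˣ) : Prop where
  odd : p ≠ 2
  perf : commutator H = ⊤
  nK : K.Normal
  Kt : K ≠ ⊤
  maxK : ∀ M : Subgroup H, M.Normal → M ≠ ⊤ → M ≤ K
  simp : IsSimpleGroup (H ⧸ K)
  na : ¬ IsMulCommutative (H ⧸ K)
  pK : ¬ p ∣ Nat.card K
  pS : p ∣ Nat.card (H ⧸ K)
  ab : ∀ P : Sylow p H, ∀ a ∈ P, ∀ b ∈ P, a * b = b * a
  cen : N ≤ Subgroup.center H
  NK : N ≤ K
  Nne : N ≠ ⊥
  inj : Function.Injective φ
  exp : ∀ v : V, p • v = 0
  nt : Nontrivial V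
  ker : ∀ h : H, (∀ v : V, h • v = v) ↔ h ∈ N
  irr : ∀ W : AddSubgroup V, (∀ h : H, ∀ w ∈ W, h • w ∈ W) → W = ⊥ ∨ W = ⊤
  P1 : ∀ v : V, ¬ p ∣ (MulAction.stabilizer H v).index
  P2 : ∀ (v : V) (χ : ↥(MulAction.stabilizer H v) → ℂ),
    IsIrrCharacter ↥(MulAction.stabilizer H v) χ →
    (∀ n (hn : n ∈ N) (hn' : n ∈ MulAction.stabilizer H v), χ ⟨n, hn'⟩ = χ 1 * φ ⟨n, hn⟩) →
    ¬ p ∣ charDegree χ

/-- Case A does not occur. -/
def NoCoreP (p : ℕ) : Prop :=
  ∀ {H V : Type u} [Group H] [Finite H] [AddCommGroup V] [Finite V] [DistribMulAction H V]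
    (K N : Subgroup H) (φ : N →* ℂˣ), ¬ CoreP (V := V) p K N φ

/-- Layer (I): `V` is primitive. -/
def LayerIP (p : ℕ) : Prop :=
  ∀ {H V : Type u} [Group H] [Finite H] [AddCommGroup V] [Finite V] [DistribMulAction H V]
    (K N : Subgroup H) (φ : N →* ℂˣ), CoreP (V := V) p K N φ → ¬ ImpP H V

/-- Layer (A): `K` is not central. -/
def LayerAP (p : ℕ) : Prop :=
  ∀ {H V : Type u} [Group H] [Finite H] [AddCommGroup V] [Finite V] [DistribMulAction H V]
    (K N : Subgroup H) (φ : N →* ℂˣ), CoreP (V := V) p K N φ → ¬ ImpP H V → ¬ K ≤ Subgroup.center H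

/-- Layer (B): no minimal non-central normal subgroup of class two. -/
def LayerBP (p : ℕ) : Prop :=
  ∀ {H V : Type u} [Group H] [Finite H] [AddCommGroup V] [Finite V] [DistribMulAction H V]
    (K N : Subgroup H) (φ : N →* ℂˣ), CoreP (V := V) p K N φ → ¬ ImpP H V →
    (∀ M : Subgroup H, M.Normal → (∀ a ∈ M, ∀ b ∈ M, a * b = b * a) → M ≤ Subgroup.center H) →
    ∀ E : Subgroup H, E.Normal → E ≤ K → ¬ E ≤ Subgroup.center H →
      (∀ M : Subgroup H, M.Normal → M < E → M ≤ Subgroup.center H) →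
      ⁅E, E⁆ ≤ Subgroup.center H → False

end Cfsg.Agent.H229.RIM
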