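import Cfsg.Agent.H229.RIM.Defs
import Cfsg.Agent.H586.GW.Rel

/-!
# S4816: the minimal counterexample (helper229)
-/

set_option autoImplicit false
set_option linter.unusedSectionVars false

open Cfsg
open scoped commutatorElement

namespace Cfsg.Agent.H229.RIM

open Cfsg.Agent.H586.GW (AbP)

universe u

/-- A minimal counterexample (`G / Z` of minimal order), after the removal of the `p`-part of `Z`. -/
structure MinX (p : ℕ) {G : Type u} [Group G] [Finite G] (Z : Subgroup G) (l : Z →* ℂˣ) : Prop where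
  odd : p ≠ 2
  cen : Z ≤ Subgroup.center G
  inj : Function.Injective l
  pZ : ¬ p ∣ Nat.card Z
  bad : Bad p Z l
  ns : ¬ IsPSolvable p G
  not : ¬ AbP p Z
  up : ∀ M : Subgroup G, M.Normal → Z < M → AbP p M
  low : ∀ M : Subgroup G, M.Normal → Z ≤ M → M ≠ ⊤ → ∀ S : Subgroup G, S ≤ M → IsPGroup p S →
    ∀ a ∈ S, ∀ b ∈ S, ⁅a, b⁆ ∈ Z

/-- There is no minimal counterexample. -/
def NoMinX (p : ℕ) : Prop :=
  ∀ {G : Type u} [Group G] [Finite G] (Z : Subgroup G) (l : Z →* ℂˣ), ¬ MinX p Z l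

/-- Case A: the unique minimal normal subgroup `Y / Z` is an elementary abelian `p`-group. `C = Z × Q` is the centralizer of
`Y / Z`, `Q = O_p(G)`; `K` is the largest proper normal subgroup over `C`, `p ∤ |K : C|`. -/
structure CaseA (p : ℕ) {G : Type u} [Group G] [Finite G] (Z Y C Q K : Subgroup G) (l : Z →* ℂˣ) : Prop where
  min : MinX p Z l
  nY : Y.Normal
  nC : C.Normal
  nQ : Q.Normal
  nK : K.Normal
  ZY : Z < Y
  uniq : ∀ M : Subgroup G, M.Normal → Z < M → Y ≤ M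
  expY : ∀ y ∈ Y, y ^ p ∈ Z
  YC : Y ≤ C
  abC : ∀ a ∈ C, ∀ b ∈ C, a * b = b * a
  CQ : C = Z ⊔ Q
  Qp : IsPGroup p Q
  cent : ∀ g : G, (∀ y ∈ Y, ⁅g, y⁆ ∈ Z) → g ∈ C
  CK : C ≤ K
  Kt : K ≠ ⊤
  pK : ¬ p ∣ C.relIndex K
  maxK : ∀ M : Subgroup G, M.Normal → C ≤ M → M ≠ ⊤ → M ≤ K
  simp : IsSimpleGroup (G ⧸ K)
  na : ¬ IsMulCommutative (G ⧸ K)
  pS : p ∣ K.index

/-- Case B: the unique minimal normal subgroup `Y / Z` is non-abelian. -/
structure CaseB (p : ℕ) {G : Type u} [Group G] [Finite G] (Z Y : Subgroup G) (l : Z →* ℂˣ) : Prop where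
  min : MinX p Z l
  nY : Y.Normal
  ZY : Z < Y
  uniq : ∀ M : Subgroup G, M.Normal → Z < M → Y ≤ M
  perf : ⁅Y, Y⁆ ⊔ Z = Y

/-- Case B with one component `E`. -/
structure CaseB1 (p : ℕ) {G : Type u} [Group G] [Finite G] (Z E : Subgroup G) (l : Z →* ℂˣ) : Prop where
  min : MinX p Z l
  nE : E.Normal
  perf : commutator E = ⊤
  simp : IsSimpleGroup (E ⧸ Subgroup.center E)
  na : ¬ IsMulCommutative (E ⧸ Subgroup.center E)
  cenE : ∀ z : E, z ∈ Subgroup.center E ↔ (z : G) ∈ Z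
  cent : Subgroup.centralizer (E : Set G) = Z
  uniq : ∀ M : Subgroup G, M.Normal → Z < M → E ≤ M
  pE : p ∣ Nat.card E

/-- Case B with one component does not occur. -/
def NoCaseB1 (p : ℕ) : Prop :=
  ∀ {G : Type u} [Group G] [Finite G] (Z E : Subgroup G) (l : Z →* ℂˣ), ¬ CaseB1 p Z E l

end Cfsg.Agent.H229.RIM
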