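import Mathlib
import Cfsg.Agent.H229.RIM.MinDef
import Cfsg.Agent.H586.GW.Struct
import Cfsg.Agent.H37.NX.TOne

/-!
# S4816: the structure of a minimal counterexample (helper229)

`exists_case : MinX p Z l → (∃ Y C Q K, CaseA p Z Y C Q K l) ∨ (∃ Y, CaseB p Z Y l)`.
-/

set_option autoImplicit false
set_option linter.unusedSectionVars false
set_option linter.style.haveILetI false

open Cfsg
open scoped commutatorElement

namespace Cfsg.Agent.H229.RIM

open Cfsg.Agent.Characters.Core Cfsg.Agent.Characters.Clifford Cfsg.Agent.H672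
open Cfsg.Agent.H672.RM (over_lin_iff)
open Cfsg.Agent.H586.GW

universe u

section elem

variable {G : Type u} [Group G]

theorem comm_pow {a b : G} (h : ⁅a, b⁆ ∈ Subgroup.center G) (n : ℕ) : ⁅a ^ n, b⁆ = ⁅a, b⁆ ^ n := by
  induction n with
  | zero => simp
  | succ n ih =>
    have h1 : ⁅a ^ (n + 1), b⁆ = a ^ n * ⁅a, b⁆ * (a ^ n)⁻¹ * ⁅a ^ n, b⁆ := by
      simp only [commutatorElement_def, pow_succ]; group
    rw [h1, Subgroup.mem_center_iff.1 h (a ^ n), mul_inv_cancel_right, ih, pow_succ']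

theorem comm_eq_one {Z : Subgroup G} [Finite Z] (hZ : Z ≤ Subgroup.center G) {a b : G} (h : ⁅a, b⁆ ∈ Z) {n : ℕ}
    (hn : a ^ n ∈ Z) (hc : Nat.Coprime n (Nat.card Z)) : a * b = b * a := by
  rw [← commutatorElement_eq_one_iff_mul_comm]
  have h1 : ⁅a, b⁆ ^ n = 1 := by
    rw [← comm_pow (hZ h), commutatorElement_eq_one_iff_mul_comm]
    exact (Subgroup.mem_center_iff.1 (hZ hn) b).symm
  have h2 : ⁅a, b⁆ ^ Nat.card Z = 1 := by
    have := pow_card_eq_one' (x := (⟨⁅a, b⁆, h⟩ : Z))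
    exact congrArg Subtype.val this
  have h3 := orderOf_dvd_of_pow_eq_one h1
  have h4 := orderOf_dvd_of_pow_eq_one h2
  exact orderOf_eq_one_iff.1 (Nat.eq_one_of_dvd_coprimes hc h3 h4)

theorem mem_of_pow {Z : Subgroup G} {x : G} {n m : ℕ} (hc : Nat.Coprime n m) (h1 : x ^ n ∈ Z) (h2 : x ^ m ∈ Z) :
    x ∈ Z := by
  have h3 : (Nat.gcd n m : ℤ) = n * Nat.gcdA n m + m * Nat.gcdB n m := Nat.gcd_eq_gcd_ab n m
  rw [hc.gcd_eq_one, Nat.cast_one] at h3
  have h4 : x = (x ^ n) ^ (Nat.gcdA n m) * (x ^ m) ^ (Nat.gcdB n m) := by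
    rw [← zpow_natCast, ← zpow_natCast, ← zpow_mul, ← zpow_mul, ← zpow_add, ← h3, zpow_one]
  rw [h4]
  exact mul_mem (zpow_mem h1 _) (zpow_mem h2 _)

theorem pow_natCard_mem {Z : Subgroup G} [Finite Z] {x : G} (hx : x ∈ Z) : x ^ Nat.card Z = 1 := by
  have := pow_card_eq_one' (x := (⟨x, hx⟩ : Z))
  exact congrArg Subtype.val this

end elem

section

variable {p : ℕ} [hp : Fact p.Prime] {G : Type u} [Group G] [Finite G] {Z : Subgroup G} {l : Z →* ℂˣ}

theorem bad_iff (hZ : Z ≤ Subgroup.center G) : Bad p Z l ↔ RelP p Z.subtype (lf l) := by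
  constructor
  · intro h χ hχ hov hd
    rw [over_lin_iff Z.subtype (fun z => hZ z.2) hχ] at hov
    rw [charDegree_lf, mul_one] at hd
    exact h χ hχ hov hd
  · intro h χ hχ hov hd
    refine h χ hχ ?_ ?_
    · rw [over_lin_iff Z.subtype (fun z => hZ z.2) hχ]
      exact hov
    · rw [charDegree_lf, mul_one]
      exact hd

/-- Commutators of elements of a `p`-group which lie in the `p'`-group `Z` are trivial. -/
theorem comm_of_pgroup (pZ : ¬ p ∣ Nat.card Z) {S : Subgroup G} (hS : IsPGroup p S) {a b : G} (ha : a ∈ S)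
    (hb : b ∈ S) (h : ⁅a, b⁆ ∈ Z) : a * b = b * a := by
  rw [← commutatorElement_eq_one_iff_mul_comm]
  have h2 : ⁅a, b⁆ ∈ S := by
    rw [commutatorElement_def]
    exact mul_mem (mul_mem (mul_mem ha hb) (inv_mem ha)) (inv_mem hb)
  obtain ⟨k, hk⟩ := hS ⟨⁅a, b⁆, h2⟩
  have hk' : ⁅a, b⁆ ^ p ^ k = 1 := congrArg Subtype.val hk
  have h3 := orderOf_dvd_of_pow_eq_one hk'
  have h4 := orderOf_dvd_of_pow_eq_one (pow_natCard_mem h)
  exact orderOf_eq_one_iff.1 (Nat.eq_one_of_dvd_coprimes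
    (Nat.Coprime.pow_left k ((Nat.Prime.coprime_iff_not_dvd hp.out).2 pZ)) h3 h4)

theorem pow_mem_of_quot {N : Subgroup G} [hN : N.Normal] {a b : G} (hab : ⁅a, b⁆ ∈ N) {n : ℕ} (ha : a ^ n ∈ N)
    (hb : b ^ n ∈ N) : (a * b) ^ n ∈ N := by
  rw [← QuotientGroup.eq_one_iff] at hab ha hb ⊢
  have h1 : ⁅(a : G ⧸ N), (b : G ⧸ N)⁆ = 1 := hab
  rw [commutatorElement_eq_one_iff_commute] at h1
  rw [QuotientGroup.mk_pow] at ha hb ⊢
  rw [QuotientGroup.mk_mul, h1.mul_pow, ha, hb, one_mul]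

namespace MinX

variable (M : MinX p Z l)
include M

theorem zn : Z.Normal := center_normal Z M.cen

theorem rel : RelP p Z.subtype (lf l) := (bad_iff M.cen).1 M.bad

theorem cop : Nat.Coprime p (Nat.card Z) := (Nat.Prime.coprime_iff_not_dvd hp.out).2 M.pZ

theorem exists_pair : ∃ S : Subgroup G, IsPGroup p S ∧ ∃ a ∈ S, ∃ b ∈ S, ⁅a, b⁆ ∉ Z := by
  haveI := M.zn
  by_contra h
  push Not at h
  exact M.not (AbP.iff.2 h)

/-- The unique minimal normal subgroup over `Z`. -/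
theorem exists_uniq : ∃ Y : Subgroup G, Y.Normal ∧ Z < Y ∧ ∀ N : Subgroup G, N.Normal → Z < N → Y ≤ N := by
  classical
  haveI := M.zn
  have hZt : Z < ⊤ := by
    rw [lt_top_iff_ne_top]
    rintro rfl
    exact M.not fun P _ _ a _ b _ => Subgroup.mem_top _
  obtain ⟨Y, ⟨hYn, hZY⟩, hmin⟩ := Set.Finite.exists_minimalFor (fun S : Subgroup G => S)
    {T : Subgroup G | T.Normal ∧ Z < T} (Set.toFinite _) ⟨⊤, inferInstance, hZt⟩
  refine ⟨Y, hYn, hZY, fun N hN hZN => ?_⟩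
  by_contra hcon
  have h1 : Z = Y ⊓ N := by
    by_contra hne
    have h2 : Z < Y ⊓ N := lt_of_le_of_ne (le_inf hZY.le hZN.le) hne
    exact hcon ((hmin ⟨inferInstance, h2⟩ inf_le_left).trans inf_le_right)
  obtain ⟨S, hS, a, ha, b, hb, hab⟩ := M.exists_pair
  apply hab
  rw [h1]
  exact ⟨AbP.iff.1 (M.up Y hYn hZY) S hS a ha b hb, AbP.iff.1 (M.up N hN hZN) S hS a ha b hb⟩

/-- Linear characters of an abelian normal subgroup `Y` over `l`, separating elements. -/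
theorem exists_lin {Y : Subgroup G} (hY : Y.Normal) (hZY : Z ≤ Y) (hk : ∃ k, Z.relIndex Y = p ^ k) {x : G}
    (hx : x ∈ Y) (hxp : x ^ p = 1) (hx1 : x ≠ 1) :
    ∃ m : Y →* ℂˣ, (∀ z (hz : z ∈ Z), m ⟨z, hZY hz⟩ = l ⟨z, hz⟩) ∧ m ⟨x, hx⟩ ≠ 1 := by
  classical
  haveI := M.zn
  obtain ⟨⟨m, hm⟩, hab⟩ := abelian_of_rel M.cen M.inj M.rel Y hY hZY hk
  by_cases h1 : m ⟨x, hx⟩ = 1
  swap
  · exact ⟨m, hm, h1⟩
  letI : CommGroup Y := { (inferInstance : Group Y) with
    mul_comm := fun a b => Subtype.ext (hab a a.2 b b.2) }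
  let q : Y →* Y ⧸ Z.subgroupOf Y := QuotientGroup.mk' (Z.subgroupOf Y)
  have hx2 : q ⟨x, hx⟩ ≠ 1 := by
    intro h
    have h2 : (⟨x, hx⟩ : Y) ∈ Z.subgroupOf Y := (QuotientGroup.eq_one_iff _).1 h
    have h3 : x ∈ Z := h2
    have h4 := orderOf_dvd_of_pow_eq_one hxp
    have h5 := orderOf_dvd_of_pow_eq_one (pow_natCard_mem h3)
    exact hx1 (orderOf_eq_one_iff.1 (Nat.eq_one_of_dvd_coprimes M.cop h4 h5))
  haveI : Finite (Y ⧸ Z.subgroupOf Y) := inferInstance
  obtain ⟨φ, hφ⟩ := CommGroup.exists_apply_ne_one_of_hasEnoughRootsOfUnity (Y ⧸ Z.subgroupOf Y) ℂ hx2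
  refine ⟨m * φ.comp q, fun z hz => ?_, ?_⟩
  · have h2 : q ⟨z, hZY hz⟩ = 1 := (QuotientGroup.eq_one_iff _).2 (show z ∈ Z from hz)
    rw [MonoidHom.mul_apply, MonoidHom.comp_apply, h2, map_one, mul_one, hm]
  · rw [MonoidHom.mul_apply, h1, one_mul]
    exact hφ

/-- `Y / Z` a normal `p`-subgroup, `C` its centralizer: `⁅C, C⁆` has no elements of order `p` in `Y`. -/
theorem derived_inter {Y C : Subgroup G} (hY : Y.Normal) (hZY : Z ≤ Y) (hk : ∃ k, Z.relIndex Y = p ^ k)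
    (hC : C.Normal) (hYC : Y ≤ C) (hcen : ∀ y ∈ Y, ∀ c ∈ C, y * c = c * y) {x : G} (hx : x ∈ Y) (hxC : x ∈ ⁅C, C⁆)
    (hxp : x ^ p = 1) : x = 1 := by
  classical
  haveI := M.zn
  by_contra hx1
  obtain ⟨m, hm, hmx⟩ := M.exists_lin hY hZY hk hx hxp hx1
  have hcY : ∀ n, Subgroup.inclusion hZY n ∈ Subgroup.center Y := by
    intro n
    rw [Subgroup.mem_center_iff]
    intro g
    exact Subtype.ext (Subgroup.mem_center_iff.1 (M.cen n.2) (g : G))
  have hov : Over (Subgroup.inclusion hZY) (lf m) (lf l) := by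
    rw [over_lin_iff _ hcY (isIrr_lf m)]
    intro n
    rw [lf_apply, lf_apply, map_one, Units.val_one, one_mul]
    exact congrArg Units.val (hm n n.2)
  have h1 : RelP p Y.subtype (lf m) := M.rel.up Z (isIrr_lf l) (charDegree_lf l) Y hZY (isIrr_lf m) hov
  have h2 := h1.normal Y (isIrr_lf m) C hYC
  have h3 := relP_equiv _ (Subgroup.subgroupOfEquivOfLe hYC) h2
  have h4 : Y.subgroupOf C ≤ Subgroup.center C := by
    intro y hy
    rw [Subgroup.mem_center_iff]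
    intro c
    exact Subtype.ext (hcen y hy c c.2).symm
  obtain ⟨ν, b, hb, hν⟩ := Cfsg.Agent.H37.NX.exists_nu (l := m.comp (Subgroup.subgroupOfEquivOfLe hYC).toMonoidHom) h4 h3
  have hxC' : x ∈ C := hYC hx
  have h5 := hν ⟨⟨x, hxC'⟩, hx⟩
  have h6 : ν ⟨x, hxC'⟩ = 1 := by
    have h7 : (⟨x, hxC'⟩ : C) ∈ commutator C := by
      have h8 : (commutator C).map C.subtype = ⁅C, C⁆ := by
        rw [commutator_def, Subgroup.map_commutator, ← MonoidHom.range_eq_map, Subgroup.range_subtype]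
      rw [← h8] at hxC
      obtain ⟨y, hy, hyx⟩ := hxC
      have : y = ⟨x, hxC'⟩ := Subtype.ext hyx
      rwa [← this]
    have h9 : commutator C ≤ ν.ker := by
      rw [commutator_def, Subgroup.commutator_le]
      intro a _ b _
      rw [MonoidHom.mem_ker, map_commutatorElement, commutatorElement_eq_one_iff_mul_comm, mul_comm]
    exact h9 h7
  have h7 : (m ⟨x, hx⟩) ^ b = 1 := by
    have h8 : (m.comp (Subgroup.subgroupOfEquivOfLe hYC).toMonoidHom) ⟨⟨x, hxC'⟩, hx⟩ = m ⟨x, hx⟩ := rfl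
    rw [h8] at h5
    change (m ⟨x, hx⟩ * (ν ⟨x, hxC'⟩)⁻¹) ^ b = 1 at h5
    rwa [h6, inv_one, mul_one] at h5
  have h8 : (m ⟨x, hx⟩) ^ p = 1 := by
    rw [← map_pow]
    have : (⟨x, hx⟩ : Y) ^ p = 1 := Subtype.ext hxp
    rw [this, map_one]
  apply hmx
  rw [← orderOf_eq_one_iff]
  exact Nat.eq_one_of_dvd_coprimes ((Nat.Prime.coprime_iff_not_dvd hp.out).2 hb)
    (orderOf_dvd_of_pow_eq_one h8) (orderOf_dvd_of_pow_eq_one h7)

/-- Elements of `Y` outside `Z` of order `p` modulo `Z`. -/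
theorem exists_p_elt {Y : Subgroup G} (hY : Y.Normal) (hZY : Z < Y) : ∃ y ∈ Y, y ∉ Z ∧ y ^ p ∈ Z := by
  by_contra hcon
  push Not at hcon
  obtain ⟨S, hS, a, ha, b, hb, hab⟩ := M.exists_pair
  have h1 : ⁅a, b⁆ ∈ Y := by
    haveI := hY
    exact AbP.iff.1 (M.up Y hY hZY) S hS a ha b hb
  have h2 : ⁅a, b⁆ ∈ S := by
    rw [commutatorElement_def]
    exact mul_mem (mul_mem (mul_mem ha hb) (inv_mem ha)) (inv_mem hb)
  obtain ⟨k, hk⟩ := hS ⟨⁅a, b⁆, h2⟩
  have hk' : ⁅a, b⁆ ^ p ^ k = 1 := congrArg Subtype.val hk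
  have h3 : ∀ j : ℕ, ⁅a, b⁆ ^ p ^ j ∈ Z → ⁅a, b⁆ ∈ Z := by
    intro j
    induction j with
    | zero => intro h; rwa [pow_zero, pow_one] at h
    | succ j ih =>
      intro h
      apply ih
      by_contra hn
      exact hcon _ (Y.pow_mem h1 _) hn (by rwa [← pow_mul, ← pow_succ])
  exact hab (h3 k (by rw [hk']; exact Z.one_mem))

/-- The subgroup of elements whose `n`-th power is in `Z`. -/
theorem pow_sub {Y : Subgroup G} (hY : Y.Normal) (hZY : Z ≤ Y) (hc : ∀ a ∈ Y, ∀ b ∈ Y, ⁅a, b⁆ ∈ Z) (n : ℕ) :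
    ∃ T : Subgroup G, T.Normal ∧ Z ≤ T ∧ ∀ x, x ∈ T ↔ x ∈ Y ∧ x ^ n ∈ Z := by
  haveI := M.zn
  refine ⟨{ carrier := {x | x ∈ Y ∧ x ^ n ∈ Z}
            one_mem' := ⟨Y.one_mem, by rw [one_pow]; exact Z.one_mem⟩
            mul_mem' := fun {a b} ha hb =>
              ⟨Y.mul_mem ha.1 hb.1, pow_mem_of_quot (hc a ha.1 b hb.1) ha.2 hb.2⟩
            inv_mem' := fun {a} ha => ⟨Y.inv_mem ha.1, by
              change (a⁻¹) ^ n ∈ Z
              rw [inv_pow]
              exact Z.inv_mem ha.2⟩ }, ⟨fun x hx g => ?_⟩, fun z hz => ⟨hZY hz, Z.pow_mem hz n⟩, fun x => Iff.rfl⟩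
  refine ⟨hY.conj_mem x hx.1 g, ?_⟩
  change (g * x * g⁻¹) ^ n ∈ Z
  rw [conj_pow]
  exact M.zn.conj_mem _ hx.2 g

/-- A normal subgroup `C` with `⁅C, C⁆ ≤ Z` is abelian and `Z × Q`. -/
theorem abelian_of_comm {Y C : Subgroup G} (hY : Y.Normal) (hZY : Z < Y)
    (uniq : ∀ N : Subgroup G, N.Normal → Z < N → Y ≤ N) (hC : C.Normal) (hYC : Y ≤ C)
    (hcc : ∀ a ∈ C, ∀ b ∈ C, ⁅a, b⁆ ∈ Z) :
    (∀ a ∈ C, ∀ b ∈ C, a * b = b * a) ∧ ∃ Q : Subgroup G, Q.Normal ∧ C = Z ⊔ Q ∧ IsPGroup p Q := by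
  classical
  haveI := M.zn
  obtain ⟨e, m, hm, hcard⟩ := Nat.exists_eq_pow_mul_and_not_dvd (n := Nat.card G) Nat.card_pos.ne' p hp.out.ne_one
  have hmc : Nat.Coprime p m := (Nat.Prime.coprime_iff_not_dvd hp.out).2 hm
  have hpow : ∀ x ∈ C, x ^ p ^ e ∈ Z := by
    obtain ⟨R, hRn, hZR, hR⟩ := M.pow_sub hC (hZY.le.trans hYC) hcc m
    have hRZ : R = Z := by
      by_contra hne
      have h1 := uniq R hRn (lt_of_le_of_ne hZR (Ne.symm hne))
      obtain ⟨y, hy, hyZ, hyp⟩ := M.exists_p_elt hY hZY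
      exact hyZ (mem_of_pow hmc hyp ((hR y).1 (h1 hy)).2)
    intro x hx
    rw [← hRZ, hR]
    refine ⟨C.pow_mem hx _, ?_⟩
    rw [← pow_mul, ← hcard, pow_card_eq_one']
    exact Z.one_mem
  have hcop : Nat.Coprime (p ^ e) (Nat.card Z) := M.cop.pow_left e
  have hab : ∀ a ∈ C, ∀ b ∈ C, a * b = b * a := fun a ha b hb => comm_eq_one M.cen (hcc a ha b hb) (hpow a ha) hcop
  refine ⟨hab, ?_⟩
  let Q : Subgroup G :=
    { carrier := {x | x ∈ C ∧ x ^ p ^ e = 1}
      one_mem' := ⟨C.one_mem, one_pow _⟩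
      mul_mem' := fun {a b} ha hb => ⟨C.mul_mem ha.1 hb.1, by
        have h : Commute a b := hab a ha.1 b hb.1
        change (a * b) ^ p ^ e = 1
        rw [h.mul_pow, ha.2, hb.2, one_mul]⟩
      inv_mem' := fun {a} ha => ⟨C.inv_mem ha.1, by
        change (a⁻¹) ^ p ^ e = 1
        rw [inv_pow, ha.2, inv_one]⟩ }
  have hQ : ∀ x, x ∈ Q ↔ x ∈ C ∧ x ^ p ^ e = 1 := fun x => Iff.rfl
  refine ⟨Q, ⟨fun x hx g => ?_⟩, le_antisymm ?_ (sup_le (hZY.le.trans hYC) fun x hx => hx.1), ?_⟩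
  · rw [hQ] at hx ⊢
    refine ⟨hC.conj_mem x hx.1 g, ?_⟩
    rw [conj_pow, hx.2, mul_one, mul_inv_cancel]
  · intro x hx
    refine mem_of_pow (n := Nat.card Z) (m := p ^ e) hcop.symm ?_ ?_
    · refine Subgroup.mem_sup_right ((hQ _).2 ⟨C.pow_mem hx _, ?_⟩)
      rw [← pow_mul, mul_comm, pow_mul]
      exact pow_natCard_mem (hpow x hx)
    · exact Subgroup.mem_sup_left (hpow x hx)
  · rintro ⟨x, hx⟩
    exact ⟨e, Subtype.ext hx.2⟩

end MinX

theorem isPSolvable_of_coprime {K : Type*} [Group K] (h : (Nat.card K).Coprime p) : IsPSolvable p K := by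
  refine ⟨1, fun i => if i = 0 then ⊥ else ⊤, by simp, by simp, ?_, ?_, ?_⟩
  · intro i j hij
    by_cases hi : i = 0
    · simp [hi]
    · have hj : j ≠ 0 := by
        rintro rfl
        exact hi (le_antisymm hij (Fin.zero_le _))
      simp [hi, hj]
  · intro i
    by_cases hi : i = 0
    · simp only [hi, if_true]; infer_instance
    · simp only [hi, if_false]; infer_instance
  · intro i
    right
    have h0 : i = 0 := Subsingleton.elim _ _
    subst h0
    simpa using h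

theorem isPSolvable_of_comm {K : Type*} [Group K] [Finite K] (h : ∀ a b : K, a * b = b * a) : IsPSolvable p K := by
  letI : CommGroup K := { (inferInstance : Group K) with mul_comm := h }
  exact Cfsg.Agent.Lib.PSolvable.IsPSolvable_of_solvable p

namespace MinX

variable (M : MinX p Z l)
include M

/-- **The two cases.** -/
theorem exists_case : (∃ Y C Q K, CaseA p Z Y C Q K l) ∨ (∃ Y, CaseB p Z Y l) := by
  classical
  haveI := M.zn
  obtain ⟨Y, hYn, hZY, uniq⟩ := M.exists_uniq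
  by_cases hYY : ⁅Y, Y⁆ ≤ Z
  swap
  · right
    refine ⟨Y, M, hYn, hZY, uniq, ?_⟩
    refine le_antisymm (sup_le (Subgroup.commutator_le_left Y Y) hZY.le) ?_
    refine uniq _ inferInstance (lt_of_le_of_ne le_sup_right fun h => hYY ?_)
    rw [h]
    exact le_sup_left
  left
  have hYc : ∀ a ∈ Y, ∀ b ∈ Y, ⁅a, b⁆ ∈ Z := fun a ha b hb => hYY (Subgroup.commutator_mem_commutator ha hb)
  -- exponent `p`
  have expY : ∀ y ∈ Y, y ^ p ∈ Z := by
    obtain ⟨T, hTn, hZT, hT⟩ := M.pow_sub hYn hZY.le hYc p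
    obtain ⟨y, hy, hyZ, hyp⟩ := M.exists_p_elt hYn hZY
    have h1 : Z < T := lt_of_le_of_ne hZT (fun h => hyZ (by rw [h, hT]; exact ⟨hy, hyp⟩))
    intro x hx
    exact ((hT x).1 (uniq T hTn h1 hx)).2
  have hk : ∃ k, Z.relIndex Y = p ^ k := by
    have h1 : IsPGroup p (Y ⧸ Z.subgroupOf Y) := by
      intro x
      obtain ⟨y, rfl⟩ := QuotientGroup.mk'_surjective (Z.subgroupOf Y) x
      refine ⟨1, ?_⟩
      rw [pow_one, ← map_pow]
      exact (QuotientGroup.eq_one_iff _).2 (show ((y ^ p : Y) : G) ∈ Z from expY y y.2)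
    exact IsPGroup.iff_card.1 h1
  let C : Subgroup G := Subgroup.centralizer (Y : Set G)
  have hCm : ∀ g, g ∈ C ↔ ∀ y ∈ Y, y * g = g * y := fun g => Subgroup.mem_centralizer_iff
  have hCn : C.Normal := Subgroup.normal_centralizer
  have cent : ∀ g : G, (∀ y ∈ Y, ⁅g, y⁆ ∈ Z) → g ∈ C := by
    intro g hg
    rw [hCm]
    intro y hy
    refine comm_eq_one M.cen (n := p) ?_ (expY y hy) M.cop
    rw [← commutatorElement_inv]
    exact Z.inv_mem (hg y hy)
  have hYC : Y ≤ C := fun y hy => cent y fun y' hy' => hYc y hy y' hy'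
  -- `⁅C, C⁆ ≤ Z`
  have hCC : ⁅C, C⁆ ≤ Z := by
    by_contra hcon
    have h1 : Y ≤ ⁅C, C⁆ ⊔ Z := uniq _ inferInstance (lt_of_le_of_ne le_sup_right fun h => hcon (by
      rw [h]; exact le_sup_left))
    obtain ⟨y, hy, hyZ, hyp⟩ := M.exists_p_elt hYn hZY
    obtain ⟨c, hc, z, hz, rfl⟩ := Subgroup.mem_sup_of_normal_right.1 (h1 hy)
    apply hyZ
    refine Z.mul_mem ?_ hz
    have hcY : c ∈ Y := by
      have := Y.mul_mem hy (Y.inv_mem (hZY.le hz))
      rwa [mul_inv_cancel_right] at this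
    refine mem_of_pow M.cop (expY c hcY) ?_
    have h2 : c ^ Nat.card Z = 1 := by
      refine M.derived_inter hYn hZY.le hk hCn hYC (fun y hy c hc => (hCm c).1 hc y hy) (Y.pow_mem hcY _)
        (Subgroup.pow_mem _ hc _) ?_
      rw [← pow_mul, mul_comm, pow_mul]
      exact pow_natCard_mem (expY c hcY)
    rw [h2]
    exact Z.one_mem
  have hcc : ∀ a ∈ C, ∀ b ∈ C, ⁅a, b⁆ ∈ Z := fun a ha b hb => hCC (Subgroup.commutator_mem_commutator ha hb)
  obtain ⟨abC, Q, hQn, CQ, Qp⟩ := M.abelian_of_comm hYn hZY uniq hCn hYC hcc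
  have hZC : Z ≤ C := hZY.le.trans hYC
  -- `p`-subgroups of proper normal subgroups are in `C`
  have hsub : ∀ T : Subgroup G, T.Normal → C ≤ T → T ≠ ⊤ → ∀ S : Subgroup G, S ≤ T → IsPGroup p S → S ≤ C := by
    intro T hT hCT hTt S hST hS s hs
    haveI := hQn
    have hQT : Q ≤ T := by
      refine le_trans ?_ hCT
      rw [CQ]
      exact le_sup_right
    have h1 : IsPGroup p (S ⊔ Q : Subgroup G) := hS.to_sup_of_normal_right Qp
    have h2 := M.low T hT (hZC.trans hCT) hTt (S ⊔ Q) (sup_le hST hQT) h1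
    have h3 : ∀ q ∈ Q, q * s = s * q := fun q hq =>
      comm_of_pgroup M.pZ h1 (Subgroup.mem_sup_right hq) (Subgroup.mem_sup_left hs)
        (h2 q (Subgroup.mem_sup_right hq) s (Subgroup.mem_sup_left hs))
    have h4 : C ≤ Subgroup.centralizer ({s} : Set G) := by
      rw [CQ]
      refine sup_le (fun z hz => ?_) (fun q hq => ?_)
      · rw [Subgroup.mem_centralizer_singleton_iff]
        exact (Subgroup.mem_center_iff.1 (M.cen hz) s).symm
      · rw [Subgroup.mem_centralizer_singleton_iff]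
        exact h3 q hq
    rw [hCm]
    intro y hy
    have h5 := h4 (hYC hy)
    rw [Subgroup.mem_centralizer_singleton_iff] at h5
    exact h5
  have hpT : ∀ T : Subgroup G, T.Normal → C ≤ T → T ≠ ⊤ → ¬ p ∣ C.relIndex T := by
    intro T hT hCT hTt
    obtain ⟨S⟩ : Nonempty (Sylow p T) := inferInstance
    have h1 : (S : Subgroup T).map T.subtype ≤ C := by
      refine hsub T hT hCT hTt _ (Subgroup.map_subtype_le _) ?_
      exact S.isPGroup'.map _
    have h2 : (S : Subgroup T) ≤ C.subgroupOf T := by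
      intro x hx
      exact h1 ⟨x, hx, rfl⟩
    intro hd
    exact S.not_dvd_index (hd.trans (Subgroup.index_dvd_of_le h2))
  have hpC : p ∣ C.index := by
    by_contra hd
    obtain ⟨S, hS, a, ha, b, hb, hab⟩ := M.exists_pair
    have h1 := mem_of_not_dvd_index hCn hd hS
    exact hab (hcc a (h1 ha) b (h1 hb))
  have hCt : C ≠ ⊤ := by
    intro h
    rw [h, Subgroup.index_top] at hpC
    exact hp.out.one_lt.ne' (Nat.dvd_one.1 hpC)
  -- the largest proper normal subgroup over `C`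
  obtain ⟨K, hKmax⟩ : ∃ K : Subgroup G, Maximal (fun K : Subgroup G => K.Normal ∧ C ≤ K ∧ K ≠ ⊤) K :=
    (Set.toFinite {K : Subgroup G | K.Normal ∧ C ≤ K ∧ K ≠ ⊤}).exists_maximal ⟨C, hCn, le_rfl, hCt⟩
  obtain ⟨hKn, hCK, hKt⟩ := hKmax.prop
  have maxK : ∀ N : Subgroup G, N.Normal → C ≤ N → N ≠ ⊤ → N ≤ K := by
    intro N hN hCN hNt
    by_cases h : N ⊔ K = ⊤
    · exfalso
      have h1 : C.index = C.relIndex N * N.index := (Subgroup.relIndex_mul_index hCN).symm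
      have h2 : N.index = N.relIndex K := by
        rw [← Subgroup.relIndex_top_right, ← h, Subgroup.relIndex_sup_left]
      rw [h1, h2] at hpC
      rcases hp.out.dvd_mul.1 hpC with h3 | h3
      · exact hpT N hN hCN hNt h3
      · exact hpT K hKn hCK hKt (h3.trans (Subgroup.relIndex_dvd_of_le_left K hCN))
    · exact le_sup_left.trans (hKmax.le_of_ge ⟨inferInstance, hCK.trans le_sup_right, h⟩ le_sup_right)
  have hpK : ¬ p ∣ C.relIndex K := hpT K hKn hCK hKt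
  have pS : p ∣ K.index := by
    have h1 : C.index = C.relIndex K * K.index := (Subgroup.relIndex_mul_index hCK).symm
    rw [h1] at hpC
    exact (hp.out.dvd_mul.1 hpC).resolve_left hpK
  have simp : IsSimpleGroup (G ⧸ K) := by
    haveI : Nontrivial (G ⧸ K) := by
      rw [← Finite.one_lt_card_iff_nontrivial]
      change 1 < K.index
      exact hp.out.one_lt.trans_le (Nat.le_of_dvd (Nat.pos_of_ne_zero Subgroup.index_ne_zero_of_finite) pS)
    refine ⟨fun X hX => ?_⟩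
    have h1 : K ≤ X.comap (QuotientGroup.mk' K) := by
      intro k hk
      have : QuotientGroup.mk' K k = 1 := (QuotientGroup.eq_one_iff k).2 hk
      change QuotientGroup.mk' K k ∈ X
      rw [this]
      exact one_mem _
    by_cases h : X.comap (QuotientGroup.mk' K) = ⊤
    · right
      rw [eq_top_iff]
      intro x _
      obtain ⟨g, rfl⟩ := QuotientGroup.mk'_surjective K x
      have : g ∈ X.comap (QuotientGroup.mk' K) := by rw [h]; trivial
      exact this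
    · left
      have h2 := maxK _ inferInstance (hCK.trans h1) h
      rw [eq_bot_iff]
      intro x hx
      obtain ⟨g, rfl⟩ := QuotientGroup.mk'_surjective K x
      exact (QuotientGroup.eq_one_iff g).2 (h2 hx)
  refine ⟨Y, C, Q, K, M, hYn, hCn, hQn, hKn, hZY, uniq, expY, hYC, abC, CQ, Qp, cent, hCK, hKt, hpK, maxK, simp, ?_, pS⟩
  -- not commutative
  intro hcomm
  apply M.ns
  refine Cfsg.Agent.Lib.PSolvable.IsPSolvable_of_extension p K ?_ (isPSolvable_of_comm fun a b => hcomm.is_comm.comm a b)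
  haveI : (C.subgroupOf K).Normal := inferInstance
  refine Cfsg.Agent.Lib.PSolvable.IsPSolvable_of_extension p (C.subgroupOf K) (isPSolvable_of_comm fun a b => ?_) ?_
  · exact Subtype.ext (Subtype.ext (abC _ a.2 _ b.2))
  · apply isPSolvable_of_coprime
    exact ((Nat.Prime.coprime_iff_not_dvd hp.out).2 hpK).symm

end MinX

end

end Cfsg.Agent.H229.RIM
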