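import Cfsg.Agent.H229.RIM.LastZ
import Cfsg.Agent.H600.RIM.ExcMain
import Cfsg.Agent.H337.RIM.PartA6
import Cfsg.Agent.H724.RIM.Pairs
import Cfsg.Agent.H886.RIM.PartM
import Cfsg.Agent.H159.RIM.PartT
import Cfsg.Agent.H930.IP.LayerB

/-!
# S4816: the theorem from the external facts and the rows (helper229)

`last1`: everything but the rows, from `Ext1` (facts whose proofs use the classification); no S0000 in the imports.
-/

set_option autoImplicit false
set_option linter.unusedSectionVars false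

open Cfsg

namespace Cfsg.Agent.H229.RIM

open Cfsg.Agent.H229.NX Cfsg.Agent.H665.RIM Cfsg.Agent.H325.RIM
open Cfsg.Agent.Schreier.Basic (Sch)
open Cfsg.Agent.H600.RIM.Exc (PartY)

universe u

/-- `PartY` of the box EXC -/
theorem partY : PartY.{u} := by
  intro p G _ _ Z Y l Ω _ _ L C g
  rw [Cfsg.Agent.H724.RIM.mem_Y_iff C]
  constructor
  · intro h ω
    exact (h ω).2
  · intro h ω
    refine ⟨C.inj ?_, h ω⟩
    obtain ⟨x, hx, h1⟩ := h ω
    rw [C.conj]
    have h2 : ∀ y ∈ L ω, g * y * g⁻¹ ∈ L ω := by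
      intro y hy
      rw [h1 y hy]
      exact mul_mem (mul_mem hx hy) (inv_mem hx)
    have h3 : ∀ y ∈ L ω, g⁻¹ * y * g ∈ L ω := by
      intro y hy
      have h4 := h1 (x⁻¹ * y * x) (mul_mem (mul_mem (inv_mem hx) hy) hx)
      have h5 : g * (x⁻¹ * y * x) * g⁻¹ = y := by rw [h4]; group
      have h6 : g⁻¹ * y * g = x⁻¹ * y * x := by
        calc g⁻¹ * y * g = g⁻¹ * (g * (x⁻¹ * y * x) * g⁻¹) * g := by rw [h5]
          _ = x⁻¹ * y * x := by group
      rw [h6]
      exact mul_mem (mul_mem (inv_mem hx) hy) hx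
    ext y
    rw [Subgroup.mem_pointwise_smul_iff_inv_smul_mem, ← map_inv, MulAut.smul_def, MulAut.conj_apply, inv_inv]
    constructor
    · intro hy
      have h4 := h2 _ hy
      have h5 : g * (g⁻¹ * y * g) * g⁻¹ = y := by group
      rwa [h5] at h4
    · exact h3 y

/-- **No exception** (box EXC: helper600, helper337, helper724, helper886, helper159) -/
theorem noExc (P : Pow) (him : ∀ (p : ℕ) [Fact p.Prime], Cfsg.Agent.H37.NX.IM.{u} p) : NoExc.{u} := by
  haveI : Fact (Nat.Prime 5) := ⟨by norm_num⟩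
  exact @Cfsg.Agent.H600.RIM.Exc.noExc_of.{u} P (him 5) @Cfsg.Agent.H337.RIM.partA6.{u} @partY.{u}
    (@Cfsg.Agent.H886.RIM.partM.{u} P) @Cfsg.Agent.H159.RIM.partT.{u}

/-- The facts whose proofs use the classification. -/
structure Ext1 : Prop extends Ext0.{u} where
  herA : Cfsg.Agent.H37.RIM.HerP.{u}
  herB : ∀ (p : ℕ) [Fact p.Prime], p ≠ 2 → Cfsg.Agent.H662.RIM.HerP.{u} p
  agl : Cfsg.Agent.H930.IP.AglStmt.{u}
  three : ∀ (p : ℕ) [Fact p.Prime], RowThree'.{u} p
  b1 : RowsNB → ∀ (p : ℕ) [Fact p.Prime], NoCaseB1.{u} p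

/-- **The theorem from the external facts and the rows.** -/
theorem last1 (X : Ext1.{u}) (R : RowsNB) (R' : RowsKill.{u})
    {p : ℕ} [hp : Fact p.Prime] {G : Type u} [Group G] [Fintype G] (N : Subgroup G) [N.Normal] [Fintype N]
    (θ : Cfsg.IrrCharacter N)
    (hdeg : ∀ χ : Cfsg.IrrCharacter G, Cfsg.classInner (fun n : N => (χ : G → ℂ) n) (θ : N → ℂ) ≠ 0 →
      (Cfsg.charDegree (χ : G → ℂ)).factorization p = (Cfsg.charDegree (θ : N → ℂ)).factorization p)
    (Q : Sylow p (G ⧸ N)) : IsMulCommutative (Q : Subgroup (G ⧸ N)) :=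
  last0 X.toExt0 R R'
    (fun p _ _ => @Cfsg.Agent.H930.IP.layerIP_of_her.{u} p _ (X.im p) X.prim X.herA (X.herB p) X.agl)
    X.three (noExc X.pow X.im) (fun p _ _ => X.b1 R p) N θ hdeg Q

end Cfsg.Agent.H229.RIM
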