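import Mathlib
import Cfsg.Agent.H229.RIM.CaseK
import Cfsg.Agent.H229.RIM.Tri
import Cfsg.Agent.H586.RIM.CoreOf
import Cfsg.Agent.H696.RIM.RowR
import Cfsg.Agent.H665.RIM.Defs

/-!
# S4816: the assembly of the frame (helper229)

* `layerAP_of` : the quasi-simple layer from the rows `NBall p S ∨ EK p S`;
* `noMinX_top` : no minimal counterexample.
-/

set_option autoImplicit false
set_option linter.unusedSectionVars false
set_option linter.style.haveILetI false

open Cfsg
open scoped commutatorElement Pointwise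

namespace Cfsg.Agent.H229.RIM

open Cfsg.Agent.H511.Wt MulAction Cfsg.Agent.H229.NX Cfsg.Agent.H665.RIM
open Cfsg.Agent.Schreier.Basic (Sch)

universe u

section

variable {p : ℕ} {H V : Type u} [Group H] [Finite H] [AddCommGroup V] [Finite V] [DistribMulAction H V]
  {K N : Subgroup H} {φ : N →* ℂˣ}

theorem CoreP.center_le (C : CoreP (V := V) p K N φ) : Subgroup.center H ≤ K := by
  refine C.maxK _ inferInstance ?_
  intro h
  apply C.Kt
  rw [eq_top_iff, ← C.perf, commutator_def, Subgroup.commutator_le]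
  intro a _ b _
  have h1 : a ∈ Subgroup.center H := by rw [h]; trivial
  rw [commutatorElement_eq_one_iff_mul_comm.2 (Subgroup.mem_center_iff.1 h1 b).symm]
  exact one_mem K

/-- All characters of `H` over `φ` have degree prime to `p`. -/
theorem CoreP.bad (C : CoreP (V := V) p K N φ) : Bad p N φ := by
  have htop : stabilizer H (0 : V) = ⊤ := by
    rw [eq_top_iff]
    intro h _
    exact smul_zero h
  let e : ↥(stabilizer H (0 : V)) ≃* H := (MulEquiv.subgroupCongr htop).trans Subgroup.topEquiv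
  have he : ∀ x, e x = (x : H) := fun _ => rfl
  intro χ hχ hov hd
  have h1 : IsIrrCharacter _ (χ ∘ e) := Cfsg.Agent.Characters.Core.isIrr_comp e.toMonoidHom e.surjective hχ
  refine C.P2 0 (χ ∘ e) h1 ?_ ?_
  · intro n hn hn'
    simp only [Function.comp, map_one]
    exact hov ⟨n, hn⟩
  · have h2 : charDegree (χ ∘ e) = charDegree χ := by
      rw [Cfsg.Agent.Blocks.Basic.charDegree_def, Cfsg.Agent.Blocks.Basic.charDegree_def, Function.comp, map_one]
    rw [h2]
    exact hd

/-- If `K` is central, then `H` is a bad quasi-simple group. -/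
theorem CoreP.qbad [hp : Fact p.Prime] (C : CoreP (V := V) p K N φ) (hK : K ≤ Subgroup.center H) : QBad p N φ := by
  have hKc : K = Subgroup.center H := le_antisymm hK C.center_le
  subst hKc
  exact ⟨C.odd, C.perf, C.simp, C.pK, C.pS.trans (Subgroup.card_quotient_dvd_card _), C.cen, C.Nne, C.inj, C.bad⟩

/-- The Sylow `p`-subgroups of `H / K` are abelian. -/
theorem CoreP.absyl [hp : Fact p.Prime] [K.Normal] (C : CoreP (V := V) p K N φ) : AbSyl p (H ⧸ K) := by
  intro P hP a ha b hb
  obtain ⟨S⟩ : Nonempty (Sylow p H) := inferInstance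
  have hs : Function.Surjective (QuotientGroup.mk' K) := QuotientGroup.mk'_surjective K
  let S' : Sylow p (H ⧸ K) := S.mapSurjective hs
  obtain ⟨g, hg⟩ : ∃ g : H ⧸ K, ∀ x ∈ P, g * x * g⁻¹ ∈ (S' : Subgroup (H ⧸ K)) := by
    obtain ⟨T, hT⟩ := hP.exists_le_sylow
    obtain ⟨g, hg⟩ := MulAction.exists_smul_eq (H ⧸ K) T S'
    refine ⟨g, fun x hx => ?_⟩
    rw [← hg]
    exact ⟨x, hT hx, rfl⟩
  have hS' : ∀ x ∈ (S' : Subgroup (H ⧸ K)), ∀ y ∈ (S' : Subgroup (H ⧸ K)), x * y = y * x := by
    rintro _ ⟨x, hx, rfl⟩ _ ⟨y, hy, rfl⟩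
    have h1 := C.ab S x hx y hy
    change QuotientGroup.mk' K x * QuotientGroup.mk' K y = QuotientGroup.mk' K y * QuotientGroup.mk' K x
    rw [← map_mul, ← map_mul, h1]
  have h1 := hS' _ (hg a ha) _ (hg b hb)
  have h2 : g * (a * b) * g⁻¹ = g * (b * a) * g⁻¹ := by
    have e1 : g * a * g⁻¹ * (g * b * g⁻¹) = g * (a * b) * g⁻¹ := by group
    have e2 : g * b * g⁻¹ * (g * a * g⁻¹) = g * (b * a) * g⁻¹ := by group
    rw [← e1, ← e2]
    exact h1
  exact mul_left_cancel (mul_right_cancel h2)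

end

/-- **The quasi-simple layer from the rows.** -/
theorem layerAP_of {p : ℕ} [hp : Fact p.Prime]
    (h : ∀ (S : Type u) [Group S] [Finite S], IsSimpleGroup S → ¬ IsMulCommutative S → p ∣ Nat.card S →
      AbSyl p S → NBall.{u} p S ∨ EK.{u} p S) : LayerAP.{u} p := by
  intro H V _ _ _ _ _ K N φ C _ hK
  haveI := C.nK
  rcases h (H ⧸ K) C.simp C.na C.pS C.absyl with h1 | h1
  · have hKc : K = Subgroup.center H := le_antisymm hK C.center_le
    subst hKc
    exact Cfsg.Agent.H696.RIM.not_qBad h1 (C.qbad hK)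
  · refine h1 H V K N φ (QuotientGroup.mk' K) C (QuotientGroup.mk'_surjective K) (QuotientGroup.ker_mk' K) ?_
    intro k hk g
    rw [commutatorElement_eq_one_iff_mul_comm.2 (Subgroup.mem_center_iff.1 (hK hk) g).symm]
    exact one_mem N

/-- **No minimal counterexample.** -/
theorem noMinX_top (P : Pow) {p : ℕ} [hp : Fact p.Prime]
    (hSch : ∀ (S : Type u) [Group S] [Finite S], IsSimpleGroup S → ¬ IsMulCommutative S → Sch S)
    (him : Cfsg.Agent.H37.NX.IM.{u} p)
    (hI : LayerIP.{u} p) (hA : LayerAP.{u} p) (hB : LayerBP.{u} p)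
    (hT : RowThree'.{u} p) (hX : p = 5 → NoExc.{u}) (hB1 : NoCaseB1.{u} p) : NoMinX.{u} p :=
  Cfsg.Agent.H586.RIM.noMinX_of him (noCoreP_of_layers P hSch hI hA hB)
    (fun _ _ _ B _ => noCaseB P him hT hX hB1 B)

end Cfsg.Agent.H229.RIM
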