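import Mathlib
import Cfsg.Agent.H229.RIM.Tri

/-!
# S4816, case A: minimal non-central normal subgroups have class two

`false_of_noncls` : a minimal non-central normal subgroup inside `K` which is not of class two is impossible.
-/

set_option autoImplicit false
set_option linter.unusedSectionVars false
set_option linter.style.haveILetI false

open Cfsg
open scoped commutatorElement Pointwise

namespace Cfsg.Agent.H229.RIM

open Cfsg.Agent.H511.Wt MulAction Cfsg.Agent.H229.NX
open Cfsg.Agent.Schreier.Basic (Sch)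

universe u

theorem false_of_noncls (P : Pow)
    (hSch : ∀ (S : Type u) [Group S] [Finite S], IsSimpleGroup S → ¬ IsMulCommutative S → Sch S)
    {p : ℕ} [hp : Fact p.Prime] {H V : Type u} [Group H] [Finite H] [AddCommGroup V] [Finite V]
    [DistribMulAction H V] {K N : Subgroup H} {φ : N →* ℂˣ} (C : CoreP (V := V) p K N φ) (hni : ¬ ImpP H V)
    {E : Subgroup H} (hEn : E.Normal) (hEK : E ≤ K) (hEc : ¬ E ≤ Subgroup.center H)
    (hmin : ∀ M : Subgroup H, M.Normal → M < E → M ≤ Subgroup.center H)
    (hcls : ¬ ⁅E, E⁆ ≤ Subgroup.center H) : False := by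
  classical
  have hirr : Irr H V := ⟨C.nt, C.irr⟩
  have hmin' : ∀ M : Subgroup H, M.Normal → M ≤ E → ¬ M ≤ Subgroup.center H → M = E := by
    intro M hM hME hc
    by_contra hne
    exact hc (hmin M hM (lt_of_le_of_ne hME hne))
  -- `E` is perfect
  have hperf : ⁅E, E⁆ = E := hmin' _ inferInstance (Subgroup.commutator_le_right E E) hcls
  obtain ⟨T, hT⟩ := exists_minC hEc
  letI act : MulAction H (Subgroup H) := MulAction.compHom (Subgroup H) (MulAut.conj : H →* MulAut H)
  have hact : ∀ (h : H) (S : Subgroup H), h • S = MulAut.conj h • S := fun _ _ => rfl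
  let Ω : Type u := MulAction.orbit H T
  let L : Ω → Subgroup H := fun ω => ω.1
  have hLm : ∀ ω : Ω, MinC E (L ω) := by
    rintro ⟨S, h, rfl⟩
    exact hT.conj hEn h
  have hLh : ∀ (h : H) (ω : Ω), L (h • ω) = MulAut.conj h • L ω := fun _ _ => rfl
  have hsup : (⨆ ω, L ω) = E := by
    refine hmin' _ ?_ (iSup_le fun ω => (hLm ω).le) ?_
    · refine ⟨fun n hn g => ?_⟩
      have h1 : (⨆ ω, L ω) ≤ (⨆ ω, L ω).comap (MulAut.conj g).toMonoidHom := by
        refine iSup_le fun ω x hx => ?_
        rw [Subgroup.mem_comap]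
        refine (le_iSup L (g • ω)) ?_
        rw [hLh, mem_conj]
        change g⁻¹ * (g * x * g⁻¹) * g ∈ L ω
        have h2 : g⁻¹ * (g * x * g⁻¹) * g = x := by group
        rwa [h2]
      exact h1 hn
    · intro hc
      exact hT.nc ((le_iSup L ⟨T, MulAction.mem_orbit_self T⟩).trans hc)
  have hcommC : ∀ i j : Ω, i ≠ j → ∀ a ∈ L i, ∀ b ∈ L j, ⁅a, b⁆ ∈ Subgroup.center H :=
    fun i j hij a ha b hb => (hLm i).comm_mem (hLm j) (fun h => hij (Subtype.ext h)) ha hb
  -- `L i` is perfect
  have hLperf : ∀ i : Ω, ⁅L i, L i⁆ = L i := by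
    intro i
    have h1 : ¬ ⁅L i, L i⁆ ≤ Subgroup.center H := by
      intro hc
      apply hcls
      rw [← hsup]
      refine commutator_iSup_le L fun j k a ha b hb => ?_
      by_cases hjk : j = k
      · subst hjk
        obtain ⟨h, rfl⟩ := MulAction.exists_smul_eq H i j
        rw [hLh, mem_conj] at ha hb
        have h2 := hc (Subgroup.commutator_mem_commutator ha hb)
        have h3 := (inferInstance : (Subgroup.center H).Normal).conj_mem _ h2 h
        have h4 : h * ⁅h⁻¹ * a * h, h⁻¹ * b * h⁆ * h⁻¹ = ⁅a, b⁆ := by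
          simp only [commutatorElement_def]; group
        rwa [h4] at h3
      · exact hcommC j k hjk a ha b hb
    refine (hLm i).min _ ⟨(Subgroup.commutator_le_self _).trans (hLm i).le, fun g hg t ht => ?_, h1⟩
      (Subgroup.commutator_le_self _)
    have h2 : (⁅L i, L i⁆).map (MulAut.conj g).toMonoidHom ≤ ⁅L i, L i⁆ := by
      rw [Subgroup.map_commutator]
      have h3 : (L i).map (MulAut.conj g).toMonoidHom ≤ L i := by
        rintro _ ⟨x, hx, rfl⟩
        exact (hLm i).nrm g hg x hx
      exact Subgroup.commutator_mono h3 h3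
    exact h2 ⟨t, ht, rfl⟩
  have hcomm : ∀ i j : Ω, i ≠ j → ∀ a ∈ L i, ∀ b ∈ L j, a * b = b * a := fun i j hij a ha b hb =>
    commute_of_perfect (hLperf i) (fun t ht => hcommC i j hij t ht b hb) ha
  by_cases hΩ : Nontrivial Ω
  · -- permuted components
    refine layerC (Ω := Ω) (H := H) (V := V) P (p := p) (q := p) C.odd hirr hni L ?_ hcomm C.exp ?_ ?_ ?_
      C.P1
    · intro h i g hg
      rw [hLh, mem_conj]
      have h2 : h⁻¹ * (h * g * h⁻¹) * h = g := by group
      rwa [h2]
    · intro i
      refine Nat.Coprime.symm ((Nat.Prime.coprime_iff_not_dvd hp.out).2 fun h => C.pK ?_)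
      exact h.trans (Subgroup.card_dvd_of_le ((hLm i).le.trans hEK))
    · intro i
      by_contra hcon
      push Not at hcon
      apply (hLm i).nc
      rw [← hLperf i, Subgroup.commutator_le]
      intro a ha b hb
      apply C.cen
      rw [← C.ker]
      intro v
      have h1 := hcon a ha b hb (a⁻¹ • b⁻¹ • v)
      rw [commutatorElement_def]
      simp only [mul_smul]
      rw [h1, smul_inv_smul, smul_inv_smul]
    · intro M hM hMt
      have h1 : p ∣ K.index := C.pS
      exact h1.trans (Subgroup.index_dvd_of_le (C.maxK M hM hMt))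
  · -- a normal quasi-simple subgroup
    have hTn : T.Normal := by
      rw [not_nontrivial_iff_subsingleton] at hΩ
      refine ⟨fun n hn g => ?_⟩
      have h1 : (⟨T, MulAction.mem_orbit_self T⟩ : Ω) = g • (⟨T, MulAction.mem_orbit_self T⟩ : Ω) :=
        Subsingleton.elim _ _
      have h2 : T = MulAut.conj g • T := congrArg Subtype.val h1
      rw [h2, mem_conj]
      have h3 : g⁻¹ * (g * n * g⁻¹) * g = n := by group
      rwa [h3]
    have hTE : T = E := hmin' T hTn hT.le hT.nc
    subst hTE
    exact quasisimple_false C.perf C.Kt C.maxK hEn hEK hcls (fun S hS => hT.min S hS hS.le) hSch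


end Cfsg.Agent.H229.RIM
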