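import Cfsg.Agent.H229.RIM.Top
import Cfsg.Agent.H325.RIM.Main
import Cfsg.Agent.H696.RIM.Min
import Cfsg.Agent.H930.IP.Layer
import Cfsg.Agent.H302.RIM.LayerB

/-!
# S4816: the theorem from its inputs (helper229)

`last0`: the external facts (classification, Schreier, Ito-Michler, primitive permutation groups, odd relative degrees, p-solvable case)
and the rows as hypotheses; no S0000 in the imports.
-/

set_option autoImplicit false
set_option linter.unusedSectionVars false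

open Cfsg

namespace Cfsg.Agent.H229.RIM

open Cfsg.Agent.H229.NX Cfsg.Agent.H665.RIM Cfsg.Agent.H325.RIM
open Cfsg.Agent.Schreier.Basic (Sch)
open Cfsg.Agent.H263.RIM

universe u

/-- The external facts. -/
structure Ext0 : Prop where
  pow : Pow
  sch : ∀ (S : Type u) [Group S] [Finite S], IsSimpleGroup S → ¬ IsMulCommutative S → Sch S
  known : ∀ (S : Type u) [Group S] [Finite S] [IsSimpleGroup S], Cfsg.IsKnownSimple' S
  im : ∀ (p : ℕ) [Fact p.Prime], Cfsg.Agent.H37.NX.IM.{u} p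
  odd : Cfsg.Agent.H696.RIM.OddCen.{u}
  goal : ∀ (p : ℕ) [Fact p.Prime] (n : ℕ), Cfsg.Agent.H586.GW.Goal.{u} p n
  prim : Cfsg.Agent.H586.GW.S3513Stmt

/-- The layer of quasi-simple groups from the rows. -/
theorem layerAP_rows (X : Ext0.{u}) (R : RowsNB) (R' : RowsKill.{u}) {p : ℕ} [hp : Fact p.Prime] (h2 : p ≠ 2) :
    LayerAP.{u} p := by
  refine layerAP_of fun S _ _ hs hna hd _ => ?_
  haveI := hs
  exact kill_all R hp.out h2 R' (X.known S) (fun h => hna ⟨⟨h⟩⟩) hd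

/-- The layer of `p`-groups from the rows. -/
theorem layerBP_rows (X : Ext0.{u}) (R : RowsNB) {p : ℕ} [hp : Fact p.Prime] (h2 : p ≠ 2) : LayerBP.{u} p :=
  @Cfsg.Agent.H302.RIM.layerBP.{u} X.pow p hp X.sch (X.im p) fun S _ _ hs hna hd _ => by
    haveI := hs
    exact nb_or_surv R hp.out h2 (X.known S) (fun h => hna ⟨⟨h⟩⟩) hd

/-- **The theorem from its inputs.** -/
theorem last0 (X : Ext0.{u}) (R : RowsNB) (R' : RowsKill.{u})
    (hI : ∀ (p : ℕ) [Fact p.Prime], p ≠ 2 → LayerIP.{u} p)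
    (hT : ∀ (p : ℕ) [Fact p.Prime], RowThree'.{u} p) (hX : NoExc.{u})
    (hB1 : ∀ (p : ℕ) [Fact p.Prime], p ≠ 2 → NoCaseB1.{u} p)
    {p : ℕ} [hp : Fact p.Prime] {G : Type u} [Group G] [Fintype G] (N : Subgroup G) [N.Normal] [Fintype N]
    (θ : Cfsg.IrrCharacter N)
    (hdeg : ∀ χ : Cfsg.IrrCharacter G, Cfsg.classInner (fun n : N => (χ : G → ℂ) n) (θ : N → ℂ) ≠ 0 →
      (Cfsg.charDegree (χ : G → ℂ)).factorization p = (Cfsg.charDegree (θ : N → ℂ)).factorization p)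
    (Q : Sylow p (G ⧸ N)) : IsMulCommutative (Q : Subgroup (G ⧸ N)) :=
  Cfsg.Agent.H696.RIM.main_of_noMinX X.odd (X.goal p)
    (fun h2 => noMinX_top X.pow X.sch (X.im p) (hI p h2) (layerAP_rows X R R' h2) (layerBP_rows X R h2) (hT p)
      (fun _ => hX) (hB1 p h2)) N θ hdeg Q

end Cfsg.Agent.H229.RIM
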