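import Cfsg.Agent.H229.RIM.Fin
import Cfsg.Agent.H325.RIM.RowsB
import Cfsg.Agent.H325.RIM.RowsKill

/-!
# S4816 from the row `(B, 3)` (helper229)
-/

set_option autoImplicit false
open Cfsg

namespace Cfsg.Agent.H229.RIM

universe u

/-- The theorem from the last open row. -/
theorem pre (b3 : Cfsg.Agent.H325.RIM.NBRow 3 .b) {p : ℕ} [Fact p.Prime] {G : Type u} [Group G] [Fintype G]
    (N : Subgroup G) [N.Normal] [Fintype N] (θ : Cfsg.IrrCharacter N)
    (hdeg : ∀ χ : Cfsg.IrrCharacter G, Cfsg.classInner (fun n : N => (χ : G → ℂ) n) (θ : N → ℂ) ≠ 0 →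
      (Cfsg.charDegree (χ : G → ℂ)).factorization p = (Cfsg.charDegree (θ : N → ℂ)).factorization p)
    (Q : Sylow p (G ⧸ N)) : IsMulCommutative (Q : Subgroup (G ⧸ N)) :=
  last1 ext1 (Cfsg.Agent.H325.RIM.rowsNB_of3 b3) Cfsg.Agent.H325.RIM.rowsKill N θ hdeg Q

end Cfsg.Agent.H229.RIM
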